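/-
S1149, certificate: the degenerate points of the curve `x² σ(x) + y² σ(y) + z² σ(z) = 0`.

`EqI σ M` is the equation (I) at all points of the curve, without denominators; `Start.EqI` derives it.
`CertDegen.main` : at a point with `x, y, z` not all equal, nothing degenerates, and the point is parametrised.
-/
import Cfsg.Agent.ReeUniq.PartB_mg
set_option linter.all false

set_option autoImplicit false

namespace Cfsg.Agent.ReeUniq

/-- Equation (I) at all points of the curve. -/
def EqI {K : Type*} [Field K] (σ : K →+* K) (M : K → K) : Prop :=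
  ∀ x y z : K, x ≠ 0 → y ≠ 0 → z ≠ 0 → x ^ 2 * σ x + y ^ 2 * σ y + z ^ 2 * σ z = 0 →
    z * (x + y + z) * M (x * σ x - y * σ y) =
      M (y * σ y + z * σ z - x * σ x) * M (x * σ x + z * σ z - y * σ y) +
        y * z * M (x * σ x + z * σ z - y * σ y) + x * z * M (y * σ y + z * σ z - x * σ x)

theorem Start.EqI {K : Type*} [Field K] [Finite K] {n : ℕ} (hn : Odd n) (hc : Nat.card K = 3 ^ n)
    {σ : K →+* K} {τ : K × K × K → K × K × K} {G : Type*} [Group G] {R : Rel σ τ G}
    {M : K → K} {d : K} (S : Start σ τ R M d) (hM : IsM σ M) : EqI σ M := by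
  have h3 := FieldM.three_eq_zero hn hc
  intro x y z hx hy hz h
  have hz' : σ z ≠ 0 := by rwa [Ne, map_eq_zero]
  have hzz : z * σ z ≠ 0 := mul_ne_zero hz hz'
  set b := (y * σ y - x * σ x) / (z * σ z) with hb
  have hb' : b * (z * σ z) = y * σ y - x * σ x := by rw [hb, div_mul_cancel₀ _ hzz]
  have e1 := S.eqI h3 hx hy hz h hb'
  have e2 := S.al_eq h3 hM b
  have e3 := S.al_neg_eq h3 hM b
  have m0 : M b = M (x * σ x - y * σ y) / z ^ 2 := by
    rw [hb, hM.div_sigma hn hc, ← hM.neg (y * σ y - x * σ x), neg_sub]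
  have m1 : M (b - 1) = M (x * σ x + z * σ z - y * σ y) / z ^ 2 := by
    have : b - 1 = -(x * σ x + z * σ z - y * σ y) / (z * σ z) := by
      rw [eq_div_iff hzz, sub_mul, hb', one_mul]; ring
    rw [this, hM.div_sigma hn hc, hM.neg]
  have m2 : M (b + 1) = M (y * σ y + z * σ z - x * σ x) / z ^ 2 := by
    have : b + 1 = (y * σ y + z * σ z - x * σ x) / (z * σ z) := by
      rw [eq_div_iff hzz, add_mul, hb', one_mul]; ring
    rw [this, hM.div_sigma hn hc]
  rw [m0, m1, m2] at e2 e3
  set D := M (x * σ x - y * σ y)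
  set u := M (y * σ y + z * σ z - x * σ x)
  set v := M (x * σ x + z * σ z - y * σ y)
  have e2' : al τ b * (u * v - z ^ 2 * D) = z ^ 2 * (D - u) := by
    field_simp at e2
    linear_combination e2
  have e3' : al τ (-b) * (u * v - z ^ 2 * D) = z ^ 2 * (D - v) := by
    field_simp at e3
    linear_combination e3
  have e4 : z * (z * (x + y + z) * D) = z * (u * v + y * z * v + x * z * u) := by
    linear_combination (u * v - z ^ 2 * D) * e1 - x * e2' - y * e3'
  exact mul_left_cancel₀ hz e4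

namespace CertDegen

variable {K : Type*} [Field K]

/-- A nontrivial point of the curve. -/
structure Pt (σ : K →+* K) (x y z : K) : Prop where
  hx : x ≠ 0
  hy : y ≠ 0
  hz : z ≠ 0
  h : x ^ 2 * σ x + y ^ 2 * σ y + z ^ 2 * σ z = 0
  ne : ¬ (x = y ∧ y = z)

theorem Pt.rot {σ : K →+* K} {x y z : K} (p : Pt σ x y z) : Pt σ y z x :=
  ⟨p.hy, p.hz, p.hx, by linear_combination p.h, fun h => p.ne ⟨(h.1.trans h.2).symm, h.1⟩⟩

variable [Finite K] {n : ℕ} (hn : Odd n) (hc : Nat.card K = 3 ^ n) {σ : K →+* K} {M : K → K}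
include hn hc

theorem eq_or_neg {x y : K} (h : x * σ x = y * σ y) : x = y ∨ x = -y := by
  have hs : ∀ w : K, (-w) * σ (-w) = w * σ w := fun w => by rw [map_neg]; ring
  rcases FieldM.isSquare_or hn hc x with hx | hx <;> rcases FieldM.isSquare_or hn hc y with hy | hy
  · exact Or.inl (FieldM.eq_of_square hn hc σ hx hy h)
  · exact Or.inr (FieldM.eq_of_square hn hc σ hx hy (by rw [hs, h]))
  · right
    rw [← FieldM.eq_of_square hn hc σ hx hy (by rw [hs, h]), neg_neg]
  · left
    exact neg_injective (FieldM.eq_of_square hn hc σ hx hy (by rw [hs, hs, h]))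

variable (hM : IsM σ M) (hI : EqI σ M)
include hM hI

theorem ne_AB {x y z : K} (p : Pt σ x y z) : x * σ x ≠ y * σ y := by
  have h3 := FieldM.three_eq_zero hn hc
  intro hAB
  have h1 := hI x y z p.hx p.hy p.hz p.h
  rw [hAB, sub_self, hM.zero, add_sub_cancel_left, hM.mul_sigma hn hc] at h1
  have h2 : z ^ 3 * (x + y + z) = 0 := by linear_combination -h1
  rcases mul_eq_zero.1 h2 with h2 | h2
  · exact p.hz (pow_eq_zero_iff (by norm_num) |>.1 h2)
  rcases eq_or_neg hn hc hAB with h4 | h4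
  · apply p.ne
    refine ⟨h4, ?_⟩
    rw [h4] at h2
    linear_combination y * h3 - h2
  · apply p.hz
    rw [h4] at h2
    linear_combination h2

theorem ne_BC {x y z : K} (p : Pt σ x y z) : y * σ y ≠ z * σ z := ne_AB hn hc hM hI p.rot
theorem ne_CA {x y z : K} (p : Pt σ x y z) : z * σ z ≠ x * σ x := ne_AB hn hc hM hI p.rot.rot

/-- `a ≠ 0` -/
theorem ne_a {x y z : K} (p : Pt σ x y z) : y * σ y + z * σ z - x * σ x ≠ 0 := by
  have h3 := FieldM.three_eq_zero hn hc
  intro ha
  have h1 := hI x y z p.hx p.hy p.hz p.h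
  have e1 : x * σ x - y * σ y = z * σ z := by linear_combination -ha
  have e2 : x * σ x + z * σ z - y * σ y = -(z * σ z) := by linear_combination -ha + z * σ z * h3
  rw [ha, e1, e2, hM.zero, hM.neg, hM.mul_sigma hn hc] at h1
  have h2 : z ^ 3 * (x + z) = 0 := by linear_combination h1
  rcases mul_eq_zero.1 h2 with h2 | h2
  · exact p.hz (pow_eq_zero_iff (by norm_num) |>.1 h2)
  have h4 : x = -z := by linear_combination h2
  rw [h4, map_neg] at ha
  have h5 : y * σ y = 0 := by linear_combination ha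
  rcases mul_eq_zero.1 h5 with h5 | h5
  · exact p.hy h5
  · exact p.hy ((map_eq_zero σ).1 h5)

omit [Finite K] hn hc hM in
/-- (I) in product form -/
theorem prod {x y z : K} (p : Pt σ x y z) : z * (x + y + z) * M (x * σ x - y * σ y) =
    (M (y * σ y + z * σ z - x * σ x) + y * z) * (M (x * σ x + z * σ z - y * σ y) + z * x) - x * y * z ^ 2 := by
  rw [hI x y z p.hx p.hy p.hz p.h]; ring

/-- `u + y z ≠ 0` -/
theorem ne_U {x y z : K} (p : Pt σ x y z) : M (y * σ y + z * σ z - x * σ x) + y * z ≠ 0 := by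
  have h3 := FieldM.three_eq_zero hn hc
  intro hU
  have e3 := prod hI p
  have e1 := prod hI p.rot
  have e2 := prod hI p.rot.rot
  have r1 : z * σ z + x * σ x - y * σ y = x * σ x + z * σ z - y * σ y := by ring
  have r2 : y * σ y + x * σ x - z * σ z = x * σ x + y * σ y - z * σ z := by ring
  have r3 : z * σ z + y * σ y - x * σ x = y * σ y + z * σ z - x * σ x := by ring
  rw [r1, r2] at e1
  rw [r3] at e2
  rw [hU, zero_mul, zero_sub] at e3
  rw [hU, mul_zero, zero_sub] at e2
  have f3 : (x + y + z) * M (x * σ x - y * σ y) = -(x * y * z) :=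
    mul_left_cancel₀ p.hz (by linear_combination e3)
  have f2 : (x + y + z) * M (z * σ z - x * σ x) = -(x * y * z) :=
    mul_left_cancel₀ p.hy (by linear_combination e2)
  have hxyz : x * y * z ≠ 0 := mul_ne_zero (mul_ne_zero p.hx p.hy) p.hz
  have hs : x + y + z ≠ 0 := by
    intro h; rw [h, zero_mul] at f3
    exact hxyz (by linear_combination f3)
  have f4 : M (x * σ x - y * σ y) = M (z * σ z - x * σ x) := mul_left_cancel₀ hs (f3.trans f2.symm)
  have f5 := hM.sq_eq_of_eq f4
  have f6 : (y * σ y - z * σ z) * (x * σ x + y * σ y + z * σ z) = 0 := by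
    linear_combination f5 + (x * σ x * (y * σ y) - x * σ x * (z * σ z)) * h3
  rcases mul_eq_zero.1 f6 with f6 | hS
  · exact ne_BC hn hc hM hI p (sub_eq_zero.1 f6)
  have g1 : y * σ y + z * σ z - x * σ x = x * σ x := by linear_combination hS - x * σ x * h3
  have g2 : x * σ x + z * σ z - y * σ y = y * σ y := by linear_combination hS - y * σ y * h3
  have g3 : x * σ x + y * σ y - z * σ z = z * σ z := by linear_combination hS - z * σ z * h3
  have g4 : y * σ y - z * σ z = x * σ x - y * σ y := by linear_combination -hS + y * σ y * h3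
  rw [g1, hM.mul_sigma hn hc] at hU
  rw [g2, g3, hM.mul_sigma hn hc, hM.mul_sigma hn hc, g4] at e1
  have e5 : (y ^ 2 + z * x) * (z ^ 2 + x * y) = 0 := by linear_combination -e1 + x * f3
  rcases mul_eq_zero.1 e5 with e5 | e5
  · apply ne_AB hn hc hM hI p
    have : (x - y) ^ 3 = 0 := by linear_combination x * hU - y * e5 - (x ^ 2 * y - x * y ^ 2) * h3
    have : x - y = 0 := pow_eq_zero_iff (by norm_num) |>.1 this
    rw [sub_eq_zero.1 this]
  · apply ne_CA hn hc hM hI p
    have : (z - x) ^ 3 = 0 := by linear_combination z * e5 - x * hU - (z ^ 2 * x - z * x ^ 2) * h3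
    have : z - x = 0 := pow_eq_zero_iff (by norm_num) |>.1 this
    rw [sub_eq_zero.1 this]

/-- the consequences of `x + y + z = 0` -/
theorem u_of_sum {x y z : K} (p : Pt σ x y z) (hs : x + y + z = 0) :
    M (y * σ y + z * σ z - x * σ x) = y * z := by
  have h3 := FieldM.three_eq_zero hn hc
  have e3 := prod hI p
  have e1 := prod hI p.rot
  have e2 := prod hI p.rot.rot
  have r1 : z * σ z + x * σ x - y * σ y = x * σ x + z * σ z - y * σ y := by ring
  have r2 : y * σ y + x * σ x - z * σ z = x * σ x + y * σ y - z * σ z := by ring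
  have r3 : z * σ z + y * σ y - x * σ x = y * σ y + z * σ z - x * σ x := by ring
  rw [r1, r2, show y + z + x = x + y + z by ring, hs, mul_zero, zero_mul] at e1
  rw [r3, show z + x + y = x + y + z by ring, hs, mul_zero, zero_mul] at e2
  rw [hs, mul_zero, zero_mul] at e3
  set U := M (y * σ y + z * σ z - x * σ x) + y * z with hU
  set V := M (x * σ x + z * σ z - y * σ y) + z * x with hV
  set T := M (x * σ x + y * σ y - z * σ z) + x * y with hT
  have hx := p.hx
  have hy := p.hy
  have hz := p.hz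
  have f1 : U * V = x * y * z ^ 2 := by linear_combination -e3
  have f2 : V * T = x ^ 2 * y * z := by linear_combination -e1
  have f3 : T * U = x * y ^ 2 * z := by linear_combination -e2
  have hq : x ^ 2 * y * z ≠ 0 := mul_ne_zero (mul_ne_zero (pow_ne_zero 2 hx) hy) hz
  have f4 : x ^ 2 * y * z * (U ^ 2 - (y * z) ^ 2) = 0 := by
    linear_combination (U * V) * f3 + x * y ^ 2 * z * f1 - U ^ 2 * f2
  have f5 : (U - y * z) * (U + y * z) = 0 := by
    rcases mul_eq_zero.1 f4 with h | h
    · exact absurd h hq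
    · linear_combination h
  rcases mul_eq_zero.1 f5 with h | h
  · exfalso
    have : M (y * σ y + z * σ z - x * σ x) = 0 := by rw [hU] at h; linear_combination h
    exact ne_a hn hc hM hI p (hM.eq_zero this)
  · rw [hU] at h
    linear_combination h - y * z * h3

/-- `x + y + z ≠ 0` -/
theorem ne_sum {x y z : K} (p : Pt σ x y z) : x + y + z ≠ 0 := by
  have h3 := FieldM.three_eq_zero hn hc
  intro hs
  have hx := p.hx
  have hy := p.hy
  have hz := p.hz
  have hxy : x ≠ y := fun h => ne_AB hn hc hM hI p (by rw [h])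
  -- `xy` is a square
  have h1 := u_of_sum hn hc hM hI p.rot.rot (by linear_combination hs)
  have s1 : IsSquare (x * y) := by rw [← h1]; exact hM.isSquare hn hc _
  -- `y / x` is fixed
  have hz' : z = -x - y := by linear_combination hs
  have hfix : x * σ y = y * σ x := by
    have h2 := p.h
    rw [hz', map_sub, map_neg] at h2
    have h4 : (x - y) * (x * σ y - y * σ x) = 0 := by
      linear_combination -h2 + (-(x * y * σ x) - x * y * σ y) * h3
    rcases mul_eq_zero.1 h4 with h4 | h4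
    · exact absurd (sub_eq_zero.1 h4) hxy
    · exact sub_eq_zero.1 h4
  -- the other point
  have q : Pt σ x (-y) (y - x) := by
    refine ⟨hx, neg_ne_zero.2 hy, fun h => hxy (sub_eq_zero.1 h).symm, ?_, ?_⟩
    · rw [map_neg, map_sub]
      linear_combination (x - 2 * y) * hfix + (x * y * σ x - y ^ 2 * σ x) * h3
    · rintro ⟨h5, -⟩
      apply hz
      rw [hz', h5]; ring
  have h6 := u_of_sum hn hc hM hI q.rot.rot (by ring)
  have s2 : IsSquare (x * -y) := by rw [← h6]; exact hM.isSquare hn hc _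
  -- contradiction
  obtain ⟨r, hr⟩ := s1
  obtain ⟨s, hs'⟩ := s2
  have hr0 : r ≠ 0 := by
    rintro rfl
    rw [mul_zero] at hr
    exact mul_ne_zero hx hy hr
  apply FieldM.sq_ne hn hc (s / r)
  rw [div_pow, div_eq_iff (pow_ne_zero 2 hr0)]
  linear_combination -hs' - hr

/-- **Nothing degenerates at a nontrivial point.** -/
theorem main {x y z : K} (hx : x ≠ 0) (hy : y ≠ 0) (hz : z ≠ 0)
    (h : x ^ 2 * σ x + y ^ 2 * σ y + z ^ 2 * σ z = 0) (hne : ¬ (x = y ∧ y = z)) {A B C : K}
    (hA : A = x * σ x) (hB : B = y * σ y) (hC : C = z * σ z) :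
    (B - A ≠ 0 ∧ C - B ≠ 0 ∧ A - C ≠ 0) ∧ (B + C - A ≠ 0 ∧ A + C - B ≠ 0 ∧ A + B - C ≠ 0) ∧
      (M (B + C - A) + y * z ≠ 0 ∧ M (A + C - B) + z * x ≠ 0 ∧ M (A + B - C) + x * y ≠ 0) ∧ x + y + z ≠ 0 ∧
      ∃ l k, l ≠ 0 ∧ x = (C - B) * (B * C - k) * l ∧ y = (A - C) * (C * A - k) * l ∧ z = (B - A) * (A * B - k) * l ∧
        B * C - k ≠ 0 ∧ C * A - k ≠ 0 ∧ A * B - k ≠ 0 ∧
        x * A ^ 2 + y * B ^ 2 + z * C ^ 2 = k * l * ((C - B) * (A - C) * (B - A)) := by
  have p : Pt σ x y z := ⟨hx, hy, hz, h, hne⟩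
  have n1 : B - A ≠ 0 := by
    rw [hA, hB]; exact fun h => ne_AB hn hc hM hI p (sub_eq_zero.1 h).symm
  have n2 : C - B ≠ 0 := by
    rw [hB, hC]; exact fun h => ne_BC hn hc hM hI p (sub_eq_zero.1 h).symm
  have n3 : A - C ≠ 0 := by
    rw [hA, hC]; exact fun h => ne_CA hn hc hM hI p (sub_eq_zero.1 h).symm
  have hs := ne_sum hn hc hM hI p
  refine ⟨⟨n1, n2, n3⟩, ⟨?_, ?_, ?_⟩, ⟨?_, ?_, ?_⟩, hs, ?_⟩
  · rw [hA, hB, hC]; exact ne_a hn hc hM hI p
  · rw [hA, hB, hC, add_comm (x * σ x)]; exact ne_a hn hc hM hI p.rot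
  · rw [hA, hB, hC]; exact ne_a hn hc hM hI p.rot.rot
  · rw [hA, hB, hC]; exact ne_U hn hc hM hI p
  · rw [hA, hB, hC, add_comm (x * σ x)]; exact ne_U hn hc hM hI p.rot
  · rw [hA, hB, hC]; exact ne_U hn hc hM hI p.rot.rot
  · have hR : x * A + y * B + z * C = 0 := by rw [hA, hB, hC]; linear_combination h
    obtain ⟨Δ, hΔ⟩ : ∃ Δ, Δ = (C - B) * (A - C) * (B - A) := ⟨_, rfl⟩
    have hΔ0 : Δ ≠ 0 := by rw [hΔ]; exact mul_ne_zero (mul_ne_zero n2 n3) n1
    obtain ⟨l, hl⟩ : ∃ l, l = -(x + y + z) / Δ := ⟨_, rfl⟩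
    have hl0 : l ≠ 0 := by rw [hl]; exact div_ne_zero (neg_ne_zero.2 hs) hΔ0
    have hlΔ : l * Δ = -(x + y + z) := by rw [hl, div_mul_cancel₀ _ hΔ0]
    obtain ⟨k, hk⟩ : ∃ k, k = B * C - x / ((C - B) * l) := ⟨_, rfl⟩
    have hCBl : (C - B) * l ≠ 0 := mul_ne_zero n2 hl0
    have ex : x = (C - B) * (B * C - k) * l := by
      have : B * C - k = x / ((C - B) * l) := by rw [hk]; ring
      rw [this]
      field_simp
    have key : (C - B) * (y - (A - C) * (C * A - k) * l) = 0 ∧ (C - B) * (z - (B - A) * (A * B - k) * l) = 0 := by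
      have h1 : (y - (A - C) * (C * A - k) * l) + (z - (B - A) * (A * B - k) * l) = 0 := by
        rw [hΔ] at hlΔ
        linear_combination hlΔ - ex
      have h2 : (y - (A - C) * (C * A - k) * l) * B + (z - (B - A) * (A * B - k) * l) * C = 0 := by
        linear_combination hR - A * ex
      constructor
      · linear_combination C * h1 - h2
      · linear_combination h2 - B * h1
    have ey : y = (A - C) * (C * A - k) * l := by
      rcases mul_eq_zero.1 key.1 with h | h
      · exact absurd h n2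
      · exact sub_eq_zero.1 h
    have ez : z = (B - A) * (A * B - k) * l := by
      rcases mul_eq_zero.1 key.2 with h | h
      · exact absurd h n2
      · exact sub_eq_zero.1 h
    refine ⟨l, k, hl0, ex, ey, ez, ?_, ?_, ?_, ?_⟩
    · intro h; apply hx; rw [ex, h]; ring
    · intro h; apply hy; rw [ey, h]; ring
    · intro h; apply hz; rw [ez, h]; ring
    · linear_combination A ^ 2 * ex + B ^ 2 * ey + C ^ 2 * ez

end CertDegen

end Cfsg.Agent.ReeUniq
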