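/-
The pointwise equations for `σ² = 3`: polynomial forms of (I), (I)^σ, (II) at a point of the curve
`x ^ 2 * σ x + y ^ 2 * σ y + z ^ 2 * σ z = 0`.
-/
import Cfsg.Agent.ReeUniq.PartB_mg
set_option linter.all false

set_option autoImplicit false

namespace Cfsg.Agent.ReeUniq

namespace MidEq

section Alg

variable {K : Type*} [Field K]

theorem lin_aux (h3 : (3 : K) = 0) (x y z x' y' z' u v u' v' b : K)
    (hb : b * (z * z') = y * y' - x * x')
    (hU : u * u' * (b - 1) ^ 2 = x * x') (hV : v * v' * (b + 1) ^ 2 = y * y')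
    (hK : (z + u + v) * (z' + u' + v') * (b ^ 2 - 1) ^ 2 = (x + y + z) * (x' + y' + z') * b ^ 2)
    (hR : (x * (z + u + v) - (x + y + z) * u) * (x' * b ^ 2 - u' * (b ^ 2 - 1) ^ 2) +
      (y * (z + u + v) - (x + y + z) * v) * (-y' * b ^ 2 + v' * (b ^ 2 - 1) ^ 2 + z' * (b ^ 4 + 1)) +
      (x + y - u - v) * (z * z' * (b ^ 4 + 1) - x * x' * (b ^ 3 - b + 1) - y * y' * (b ^ 3 - b - 1)) = 0) :
    (x + y - u - v) * ((-b ^ 2 * (y * y' + y * z' + y * x' + z * x') -
        (x * x' * b ^ 3 + b * (x * x' + y * y' + z * z') + z * z')) * u +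
      (b ^ 2 * (x * x' + x * y' + z * y' + x * z' + z * z') - z * z' * (b ^ 2 - 1) ^ 2 -
        (x * x' * b ^ 3 + b * (x * x' + y * y' + z * z') + z * z')) * v +
      z * (x * x' * (b + 1) ^ 2 - y * y' * (b - 1) ^ 2)) = 0 := by
  linear_combination -(u + v) * hR + (y * u - x * v) * hK - z * (x + y - u - v) * (b + 1) ^ 2 * hU +
    z * (x + y - u - v) * (b - 1) ^ 2 * hV + (u + v) * (x + y - u - v) * (b ^ 3 - 1) * hb +
    (-(x*y*u*b^3*x') - x*y*v*b^3*x' - x*u*v*b^2*z' + 2*x*u*v*b^3*x' + x*u^2*b^3*x' - x*v^2*b^2*z' +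
      x*v^2*b^3*x' - x^2*u*b^3*x' - x^2*v*b^3*x' + y*u*v*b^2*z' + y*u*b^2*z'*z + y*u^2*b^2*z' +
      y*v*b^2*z'*z - u*v*b^2*z'*z - v^2*b^2*z'*z) * h3

/-- the coefficient `P` -/
def cP (x y z x' y' z' : K) : K :=
  (z * z') ^ 4 - (y * y' - x * x') ^ 3 * (y * y' + z * z') -
    (z * z') ^ 2 * (y * y' - x * x') * (x * x' + y * y' + z * z') +
    z * z' * (y * y' - x * x') ^ 2 * (x * z' + (x + y + z) * y')

/-- the coefficient `Q` -/
def cQ (x y z x' y' z' : K) : K :=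
  (z * z') ^ 4 + (y * y' - x * x') ^ 3 * (x * x' + z * z') +
    (z * z') ^ 2 * (y * y' - x * x') * (x * x' + y * y' + z * z') +
    z * z' * (y * y' - x * x') ^ 2 * (y * z' + (x + y + z) * x')

/-- from the raw equations to the linear relation -/
theorem lin_main (h3 : (3 : K) = 0) {x y z x' y' z' b al am be bm E P N E' P' N' : K}
    (hy : y ≠ 0) (hz : z ≠ 0) (hz' : z' ≠ 0) (he : x + y + z ≠ 0)
    (hP : P ≠ 0) (hN : N ≠ 0) (hP' : P' ≠ 0) (hN' : N' ≠ 0)
    (hb : b * (z * z') = y * y' - x * x')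
    (hEE : E * E' = b ^ 2) (hPP : P * P' = (b + 1) ^ 2) (hNN : N * N' = (b - 1) ^ 2)
    (hD : N * P - E ≠ 0)
    (h1 : al * (N * P - E) = E - P) (h2 : am * (N * P - E) = E - N)
    (h4 : be * (b ^ 4 + 1) = al * (b ^ 2 - N * (1 + b) ^ 2) - (b ^ 3 - b + 1))
    (h5 : bm * (b ^ 4 + 1) = am * (b ^ 2 - P * (1 - b) ^ 2) + (b ^ 3 - b - 1))
    (h6 : x * al + y * am = z)
    (h6' : (x' + y' + z') * E' = z' * P' * N' + x' * P' + y' * N')
    (h7 : x * x' * be = -(z * z') + y * y' * bm - y * z' * am)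
    {i j : K} (hi : i * P * z = y) (hj : j * N * z = x) :
    cP x y z x' y' z' * i - cQ x y z x' y' z' * j =
      z * z' * (y * y' * (x * x' + z * z' - y * y') ^ 2 - x * x' * (y * y' + z * z' - x * x') ^ 2) := by
  obtain ⟨u, hu⟩ : ∃ u, u = j * z := ⟨_, rfl⟩
  obtain ⟨v, hv⟩ : ∃ v, v = i * z := ⟨_, rfl⟩
  obtain ⟨u', hu'⟩ : ∃ u', u' = x' / N' := ⟨_, rfl⟩
  obtain ⟨v', hv'⟩ : ∃ v', v' = y' / P' := ⟨_, rfl⟩
  have huN : u * N = x := by rw [hu]; linear_combination hj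
  have hvP : v * P = y := by rw [hv]; linear_combination hi
  have huN' : u' * N' = x' := by rw [hu', div_mul_cancel₀ _ hN']
  have hvP' : v' * P' = y' := by rw [hv', div_mul_cancel₀ _ hP']
  have hU : u * u' * (b - 1) ^ 2 = x * x' := by rw [← hNN, ← huN, ← huN']; ring
  have hV : v * v' * (b + 1) ^ 2 = y * y' := by rw [← hPP, ← hvP, ← hvP']; ring
  have hT : (x + y + z) * E = (z + u + v) * P * N := by
    linear_combination (N * P - E) * h6 - x * h1 - y * h2 - P * huN - N * hvP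
  have hT' : (x' + y' + z') * E' = (z' + u' + v') * P' * N' := by
    rw [h6', ← huN', ← hvP']; ring
  have hK : (z + u + v) * (z' + u' + v') * (b ^ 2 - 1) ^ 2 = (x + y + z) * (x' + y' + z') * b ^ 2 := by
    linear_combination (-(z + u + v) * (z' + u' + v') * (b + 1) ^ 2) * hNN -
      (z + u + v) * (z' + u' + v') * N * N' * hPP + (x + y + z) * (x' + y' + z') * hEE -
      (x' + y' + z') * E' * hT - (z + u + v) * P * N * hT'
  have hDe : (x + y + z) * (N * P - E) = N * P * (x + y - u - v) := by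
    linear_combination -hT
  have hD0 : x + y - u - v ≠ 0 := by
    intro h0
    rw [h0, mul_zero] at hDe
    rcases mul_eq_zero.1 hDe with h | h
    · exact he h
    · exact hD h
  have hal : x * al * (x + y - u - v) = x * (z + u + v) - (x + y + z) * u := by
    have h8 : al * N * (x + y - u - v) = (z + u + v) * N - (x + y + z) := by
      apply mul_left_cancel₀ hP
      linear_combination (x + y + z) * h1 - al * hDe + hT
    linear_combination u * h8 - al * (x + y - u - v) * huN + (z + u + v) * huN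
  have ham : y * am * (x + y - u - v) = y * (z + u + v) - (x + y + z) * v := by
    have h8 : am * P * (x + y - u - v) = (z + u + v) * P - (x + y + z) := by
      apply mul_left_cancel₀ hN
      linear_combination (x + y + z) * h2 - am * hDe + hT
    linear_combination v * h8 - am * (x + y - u - v) * hvP + (z + u + v) * hvP
  have hxN : u' * (b ^ 2 - 1) ^ 2 = x' * N * (b + 1) ^ 2 := by
    linear_combination (-u' * (b + 1) ^ 2) * hNN + N * (b + 1) ^ 2 * huN'
  have hyP : v' * (b ^ 2 - 1) ^ 2 = y' * P * (b - 1) ^ 2 := by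
    linear_combination (-v' * (b - 1) ^ 2) * hPP + P * (b - 1) ^ 2 * hvP'
  have hR : (x * (z + u + v) - (x + y + z) * u) * (x' * b ^ 2 - u' * (b ^ 2 - 1) ^ 2) +
      (y * (z + u + v) - (x + y + z) * v) * (-y' * b ^ 2 + v' * (b ^ 2 - 1) ^ 2 + z' * (b ^ 4 + 1)) +
      (x + y - u - v) * (z * z' * (b ^ 4 + 1) - x * x' * (b ^ 3 - b + 1) - y * y' * (b ^ 3 - b - 1)) = 0 := by
    rw [← hal, ← ham, hxN, hyP]
    linear_combination (x + y - u - v) * ((b ^ 4 + 1) * h7 - x * x' * h4 + y * y' * h5)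
  have hL := (mul_eq_zero.1 (lin_aux h3 x y z x' y' z' u v u' v' b hb hU hV hK hR)).resolve_left hD0
  obtain ⟨F, hF⟩ : ∃ F, F = y * y' - x * x' := ⟨_, rfl⟩
  rw [← hF] at hb
  have hW : (-(F ^ 2 * (z * z') * (y * y' + y * z' + y * x' + z * x') + x * x' * F ^ 3 +
        F * (z * z') ^ 2 * (x * x' + y * y' + z * z') + (z * z') ^ 4)) * j +
      (F ^ 2 * (z * z') * (x * x' + x * y' + z * y' + x * z' + z * z') - (F ^ 2 - (z * z') ^ 2) ^ 2 -
        (x * x' * F ^ 3 + F * (z * z') ^ 2 * (x * x' + y * y' + z * z') + (z * z') ^ 4)) * i +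
      z * z' * (x * x' * (F + z * z') ^ 2 - y * y' * (F - z * z') ^ 2) = 0 := by
    apply mul_left_cancel₀ hz
    rw [← hb]
    rw [hu, hv] at hL
    linear_combination (z * z') ^ 3 * hL
  rw [hF] at hW
  simp only [cP, cQ]
  linear_combination hW + i * (z ^ 4 * z' ^ 4 + 2 * z ^ 2 * z' ^ 2 * y * y' * x * x' -
    z ^ 2 * z' ^ 2 * y ^ 2 * y' ^ 2 - z ^ 2 * z' ^ 2 * x ^ 2 * x' ^ 2) * h3

end Alg

section Point

variable {K : Type*} [Field K] [Finite K] {n : ℕ} (hn : Odd n) (hc : Nat.card K = 3 ^ n)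
  {σ : K →+* K} {τ : K × K × K → K × K × K} {G : Type*} [Group G] {R : Rel σ τ G}
  {M : K → K} {d : K} (S : Start σ τ R M d) (hM : IsM σ M)
include hn hc S hM

/-- **(I)** in polynomial form -/
theorem eqI_poly {x y z : K} (hx : x ≠ 0) (hy : y ≠ 0) (hz : z ≠ 0)
    (h : x ^ 2 * σ x + y ^ 2 * σ y + z ^ 2 * σ z = 0) :
    (x + y + z) * z * M (y * σ y - x * σ x) =
      M (y * σ y + z * σ z - x * σ x) * M (x * σ x + z * σ z - y * σ y) +
        x * z * M (y * σ y + z * σ z - x * σ x) + y * z * M (x * σ x + z * σ z - y * σ y) := by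
  have h3 := FieldM.three_eq_zero hn hc
  have hz' : σ z ≠ 0 := by rwa [Ne, map_eq_zero]
  have hC : z * σ z ≠ 0 := mul_ne_zero hz hz'
  obtain ⟨b, hb⟩ : ∃ b, b = (y * σ y - x * σ x) / (z * σ z) := ⟨_, rfl⟩
  have hbC : b * (z * σ z) = y * σ y - x * σ x := by rw [hb, div_mul_cancel₀ _ hC]
  have e1 : M (y * σ y - x * σ x) = M b * z ^ 2 := by
    rw [← hbC, hM.mul, hM.mul_sigma hn hc]
  have e2 : M (y * σ y + z * σ z - x * σ x) = M (b + 1) * z ^ 2 := by
    rw [← hM.mul_sigma hn hc z, ← hM.mul]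
    congr 1
    linear_combination -hbC
  have e3 : M (x * σ x + z * σ z - y * σ y) = M (b - 1) * z ^ 2 := by
    rw [← hM.mul_sigma hn hc z, ← hM.mul, ← hM.neg]
    congr 1
    linear_combination -hbC
  rw [e1, e2, e3]
  have h1 := S.al_eq h3 hM b
  have h2 := S.al_neg_eq h3 hM b
  have h4 := S.eqI h3 hx hy hz h hbC
  linear_combination z ^ 3 * ((M (b - 1) * M (b + 1) - M b) * h4 - x * h1 - y * h2)

theorem sx_ne {x y z : K} (hx : x ≠ 0) (hy : y ≠ 0) (hz : z ≠ 0)
    (h : x ^ 2 * σ x + y ^ 2 * σ y + z ^ 2 * σ z = 0) : y * σ y + z * σ z - x * σ x ≠ 0 := by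
  have h3 := FieldM.three_eq_zero hn hc
  intro h0
  have h1 := eqI_poly hn hc S hM hx hy hz h
  rw [h0, hM.zero] at h1
  have e1 : M (y * σ y - x * σ x) = z ^ 2 := by
    rw [← hM.mul_sigma hn hc z, ← hM.neg]
    congr 1
    linear_combination -h0
  have e2 : M (x * σ x + z * σ z - y * σ y) = z ^ 2 := by
    rw [← hM.mul_sigma hn hc z, ← hM.neg]
    congr 1
    linear_combination h0 - (z * σ z) * h3
  rw [e1, e2] at h1
  have h2 : z ^ 3 * (x + z) = 0 := by linear_combination h1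
  have h4 : z = -x := by
    rcases mul_eq_zero.1 h2 with h | h
    · exact absurd h (pow_ne_zero 3 hz)
    · linear_combination h
  rw [h4] at h
  have h5 : y ^ 2 * σ y = 0 := by
    rw [map_neg] at h
    linear_combination h
  rcases mul_eq_zero.1 h5 with h | h
  · exact hy (pow_eq_zero_iff two_ne_zero |>.1 h)
  · exact hy ((map_eq_zero σ).1 h)

/-- **the linear relation** -/
theorem lin {x y z : K} (hx : x ≠ 0) (hy : y ≠ 0) (hz : z ≠ 0)
    (h : x ^ 2 * σ x + y ^ 2 * σ y + z ^ 2 * σ z = 0) (he : x + y + z ≠ 0) :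
    cP x y z (σ x) (σ y) (σ z) * (y * z / M (y * σ y + z * σ z - x * σ x)) -
      cQ x y z (σ x) (σ y) (σ z) * (x * z / M (x * σ x + z * σ z - y * σ y)) =
    z * σ z * (y * σ y * (x * σ x + z * σ z - y * σ y) ^ 2 -
      x * σ x * (y * σ y + z * σ z - x * σ x) ^ 2) := by
  have h3 := FieldM.three_eq_zero hn hc
  have hsq := FieldM.sq_ne hn hc
  have hz' : σ z ≠ 0 := by rwa [Ne, map_eq_zero]
  have hC : z * σ z ≠ 0 := mul_ne_zero hz hz'
  obtain ⟨b, hb⟩ : ∃ b, b = (y * σ y - x * σ x) / (z * σ z) := ⟨_, rfl⟩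
  have hbC : b * (z * σ z) = y * σ y - x * σ x := by rw [hb, div_mul_cancel₀ _ hC]
  have e1 : M (y * σ y - x * σ x) = M b * z ^ 2 := by
    rw [← hbC, hM.mul, hM.mul_sigma hn hc]
  have e2 : M (y * σ y + z * σ z - x * σ x) = M (b + 1) * z ^ 2 := by
    rw [← hM.mul_sigma hn hc z, ← hM.mul]
    congr 1
    linear_combination -hbC
  have e3 : M (x * σ x + z * σ z - y * σ y) = M (b - 1) * z ^ 2 := by
    rw [← hM.mul_sigma hn hc z, ← hM.mul, ← hM.neg]
    congr 1
    linear_combination -hbC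
  have hs1 := sx_ne hn hc S hM hx hy hz h
  have hs2 := sx_ne hn hc S hM hy hx hz (by linear_combination h)
  have hP : M (b + 1) ≠ 0 := by
    intro h0
    apply hM.ne_zero hs1
    rw [e2, h0, zero_mul]
  have hN : M (b - 1) ≠ 0 := by
    intro h0
    apply hM.ne_zero hs2
    rw [e3, h0, zero_mul]
  have hI := S.eqI h3 hx hy hz h hbC
  have h1 := S.al_eq h3 hM b
  have h2 := S.al_neg_eq h3 hM b
  have hI' : (σ x + σ y + σ z) * σ (M b) = σ z * σ (M (b + 1)) * σ (M (b - 1)) + σ x * σ (M (b + 1)) +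
      σ y * σ (M (b - 1)) := by
    have : (x + y + z) * M b = z * M (b + 1) * M (b - 1) + x * M (b + 1) + y * M (b - 1) := by
      linear_combination (M (b - 1) * M (b + 1) - M b) * hI - x * h1 - y * h2
    have := congrArg σ this
    simpa only [map_add, map_mul] using this
  refine lin_main h3 (b := b) (E := M b) (P := M (b + 1)) (N := M (b - 1)) (E' := σ (M b))
    (P' := σ (M (b + 1))) (N' := σ (M (b - 1))) hy hz hz' he hP hN ?_ ?_ hbC (hM.pow _) (hM.pow _)
    (hM.pow _) (hM.den_ne_zero h3 hsq b) h1 h2 (S.be_eq h3 hM b) (S.be_neg_eq h3 hM b) hI hI'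
    (S.eqII h3 hx hy hz h hbC) ?_ ?_
  · rwa [Ne, map_eq_zero]
  · rwa [Ne, map_eq_zero]
  · rw [e2]
    field_simp
  · rw [e3]
    field_simp

end Point

end MidEq

end Cfsg.Agent.ReeUniq
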