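/-
The pointwise identity, from the nine equations and the elimination certificate.
-/
import Cfsg.Agent.ReeUniq.Cert
import Cfsg.Agent.ReeUniq.CertNine
import Cfsg.Agent.ReeUniq.Final_mg
set_option linter.all false

set_option autoImplicit false

namespace Cfsg.Agent.ReeUniq.PointCertOf

open Cfsg.Agent.ReeUniq Cfsg.Agent.ReeUniq.CertIn

section

variable {K : Type*} [Field K]

/-- clearing denominators in `KA` -/
theorem KA_eq {A B C k : K} (hY : C * A - k ≠ 0) (hZ : A * B - k ≠ 0) :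
    (C * A - k) * (A * B - k) * KA A B C k = Cert.P1 A B C k := by
  obtain ⟨Yi, hYi⟩ : ∃ Yi, Yi = (C * A - k)⁻¹ := ⟨_, rfl⟩
  obtain ⟨Zi, hZi⟩ : ∃ Zi, Zi = (A * B - k)⁻¹ := ⟨_, rfl⟩
  have hY1 : (C * A - k) * Yi = 1 := by rw [hYi, mul_inv_cancel₀ hY]
  have hZ1 : (A * B - k) * Zi = 1 := by rw [hZi, mul_inv_cancel₀ hZ]
  unfold KA Cert.P1
  rw [div_eq_mul_inv, div_eq_mul_inv, ← hYi, ← hZi]
  linear_combination (-(B * C ^ 2 * (C - B) * (A - C) * (B - A)) * (C * A - k)) * hZ1 -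
    (B * C * (C - B) * (B - A) ^ 3 * (A * B - k)) * hY1

/-- clearing denominators in `KB` -/
theorem KB_eq {A B C k : K} (h3 : (3 : K) = 0) (hX : B * C - k ≠ 0) (hZ : A * B - k ≠ 0) :
    (B * C - k) * (A * B - k) * KB A B C k = Cert.P2 A B C k := by
  obtain ⟨Xi, hXi⟩ : ∃ Xi, Xi = (B * C - k)⁻¹ := ⟨_, rfl⟩
  obtain ⟨Zi, hZi⟩ : ∃ Zi, Zi = (A * B - k)⁻¹ := ⟨_, rfl⟩
  have hX1 : (B * C - k) * Xi = 1 := by rw [hXi, mul_inv_cancel₀ hX]
  have hZ1 : (A * B - k) * Zi = 1 := by rw [hZi, mul_inv_cancel₀ hZ]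
  unfold KB Cert.P2
  rw [div_eq_mul_inv, div_eq_mul_inv, ← hXi, ← hZi]
  have h9 : (B + C - A) ^ 2 - B * C - ((A + C - B) ^ 2 - C * A) = 3 * (B * C - A * C) := by ring
  rw [h3, zero_mul] at h9
  linear_combination (A * C ^ 2 * (C - B) * (A - C) * (B - A) * (B * C - k)) * hZ1 -
    (A * C * (A - C) * (B - A) ^ 3 * (A * B - k)) * hX1 +
    (B * C - k) * (A * B - k) * (A + C - B) ^ 2 * h9

end

/-- **The pointwise identity.** -/
theorem pointCert {K : Type*} [Field K] [Finite K] {n : ℕ} (hn : Odd n) (hc : Nat.card K = 3 ^ n)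
    {σ : K →+* K} {τ : K × K × K → K × K × K} {G : Type*} [Group G] {R : Rel σ τ G}
    {M : K → K} {d : K} (S : Start σ τ R M d) (hM : IsM σ M) : Final.PointCert σ := by
  intro x y z hx hy hz h
  have h3 := FieldM.three_eq_zero hn hc
  by_cases hne : x = y ∧ y = z
  · obtain ⟨rfl, rfl⟩ := hne
    linear_combination (x ^ 3 * σ x ^ 2) * h3
  obtain ⟨A, B, C, k, p, q, r, ps, qs, rs, hA, hB, hC, hBA, hCB, hAC, ha, hb, hc', hX, hY, hZ,
    e1, e2, e3, e4, e5, e6, f1, f2, f3, -, -, -, -, -, -, hk⟩ := CertIn.input hn hc S hM hx hy hz h hne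
  apply hk
  have E : Cert.Eqs A B C k p q r ps qs rs := by
    refine ⟨?_, ?_, ?_, ?_, ?_, ?_, ?_, ?_, ?_⟩
    · rw [e1, KA_eq hY hZ]
    · rw [e2, KB_eq h3 hX hZ]
    · rw [e3, ← KA_eq hZ hX]; ring
    · rw [e4, ← KB_eq h3 hY hX]; ring
    · rw [e5, ← KA_eq hX hY]
    · rw [e6, ← KB_eq h3 hZ hY]; ring
    · linear_combination f1
    · linear_combination f2
    · linear_combination f3
  exact E.eq_zero h3 (FieldM.sq_ne hn hc) hA hB hC ha hb hc' hCB hAC hBA hX hY hZ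

end Cfsg.Agent.ReeUniq.PointCertOf
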