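import Cfsg.Agent.ReeUniq.PartB_mg
set_option linter.all false

/-!
# S1149: the six multiplicative equations

For a solution of `x² σ x + y² σ y + z² σ z = 0` the equations (I), (I)^σ, (II) of the three cyclic versions say that the six
products of the quantities `M(a) σ(M(a)) + M(a) σ(y z)`, ... have explicit values (helper612).
-/

set_option autoImplicit false

namespace Cfsg.Agent.ReeUniq

namespace CertIn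

variable {K : Type*} [Field K]

/-- the value of the product `p* q` -/
def KP (x y z x1 y1 z1 : K) : K :=
  (z * z1) ^ 4 - (y * y1 - x * x1) ^ 3 * (y * y1 + z * z1) -
    (z * z1) ^ 2 * (y * y1 - x * x1) * (x * x1 + y * y1 + z * z1) +
    z * z1 * (y * y1 - x * x1) ^ 2 * (x * z1 + (x + y + z) * y1) +
    (y * y1 + z * z1 - x * x1) ^ 2 * ((y * y1 + z * z1 - x * x1) ^ 2 - y * y1 * (z * z1))

/-- the value of the product `q* p` -/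
def KQ (x y z x1 y1 z1 : K) : K :=
  (z * z1) ^ 4 + (y * y1 - x * x1) ^ 3 * (x * x1 + z * z1) +
    (z * z1) ^ 2 * (y * y1 - x * x1) * (x * x1 + y * y1 + z * z1) +
    z * z1 * (y * y1 - x * x1) ^ 2 * (y * z1 + (x + y + z) * x1) +
    (x * x1 + z * z1 - y * y1) ^ 2 * ((y * y1 + z * z1 - x * x1) ^ 2 - y * y1 * (z * z1))

variable {x y z x1 y1 z1 u v w u1 v1 w1 : K}

/-- `E1 + E2 = 0` -/
theorem sum_eq (h3 : (3 : K) = 0)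
    (hI : z * w * (x + y + z) = u * v + z * (x * u + y * v))
    (hI1 : z1 * w1 * (x1 + y1 + z1) = u1 * v1 + z1 * (x1 * u1 + y1 * v1))
    (hu : u * u1 = (y * y1 + z * z1 - x * x1) ^ 2) (hv : v * v1 = (x * x1 + z * z1 - y * y1) ^ 2)
    (hw : w * w1 = (y * y1 - x * x1) ^ 2) :
    (u * (u1 + y1 * z1) * (v1 * (v + x * z)) - KP x y z x1 y1 z1) +
      (v * (v1 + x1 * z1) * (u1 * (u + y * z)) - KQ x y z x1 y1 z1) = 0 := by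
  unfold KP KQ
  linear_combination (-(z1 * w1 * (x1 + y1 + z1))) * hI - (u * v + z * (x * u + y * v)) * hI1 +
    (v * v1 - x * z * x1 * z1) * hu +
    (x ^ 2 * x1 ^ 2 - 2 * x * y * x1 * y1 - 2 * x * z * x1 * z1 + y ^ 2 * y1 ^ 2 + y * z * y1 * z1 + z ^ 2 * z1 ^ 2) * hv +
    (x * z * x1 * z1 + x * z * y1 * z1 + x * z * z1 ^ 2 + y * z * x1 * z1 + y * z * y1 * z1 + y * z * z1 ^ 2 +
      z ^ 2 * x1 * z1 + z ^ 2 * y1 * z1 + z ^ 2 * z1 ^ 2) * hw +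
    (x^3*z*x1^3*z1 - 3*x^2*y*z*x1^2*y1*z1 - x^2*z^2*x1^2*z1^2 + 3*x*y^2*z*x1*y1^2*z1 + 2*x*y*z^2*x1*y1*z1^2 +
      x*z^3*x1*z1^3 - y^3*z*y1^3*z1 - y^2*z^2*y1^2*z1^2 - y*z^3*y1*z1^3 - z^4*z1^4) * h3

/-- the second relation -/
theorem rel_eq (h3 : (3 : K) = 0)
    (hI : z * w * (x + y + z) = u * v + z * (x * u + y * v))
    (hII : x * x1 * (z * z1) * (w - u) * ((y * y1 - x * x1) ^ 2 * z ^ 2 - v * (y * y1 + z * z1 - x * x1) ^ 2) -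
      y * y1 * (z * z1) * (w - v) * ((y * y1 - x * x1) ^ 2 * z ^ 2 - u * (x * x1 + z * z1 - y * y1) ^ 2) +
      (u * v - w * z ^ 2) * ((y * y1 - x * x1) ^ 4 + (z * z1) ^ 4 -
        x * x1 * ((y * y1 - x * x1) ^ 3 - (y * y1 - x * x1) * (z * z1) ^ 2 + (z * z1) ^ 3) -
        y * y1 * ((y * y1 - x * x1) ^ 3 - (y * y1 - x * x1) * (z * z1) ^ 2 - (z * z1) ^ 3)) +
      y * z * (w - v) * ((y * y1 - x * x1) ^ 4 + (z * z1) ^ 4) = 0)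
    (hu : u * u1 = (y * y1 + z * z1 - x * x1) ^ 2) (hv : v * v1 = (x * x1 + z * z1 - y * y1) ^ 2) :
    y * (u - z ^ 2) * v * (u * (u1 + y1 * z1) * (v1 * (v + x * z)) - KP x y z x1 y1 z1) * z -
      x * (v - z ^ 2) * u * (v * (v1 + x1 * z1) * (u1 * (u + y * z)) - KQ x y z x1 y1 z1) * z = 0 := by
  have hF1 : (x * x1 + z * z1 - y * y1) ^ 2 * ((y * y1 + z * z1 - x * x1) ^ 2 + u * y1 * z1) * (v + x * z) -
      KP x y z x1 y1 z1 * v = v * (u * (u1 + y1 * z1) * (v1 * (v + x * z)) - KP x y z x1 y1 z1) := by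
    linear_combination (-v^2*v1 - v*v1*x*z) * hu + (-u*v*y1*z1 - u*x*z*y1*z1 - v*x^2*x1^2 + 2*v*x*y*x1*y1 +
      2*v*x*z*x1*z1 - v*y^2*y1^2 - 2*v*y*z*y1*z1 - v*z^2*z1^2 - x^3*z*x1^2 + 2*x^2*y*z*x1*y1 + 2*x^2*z^2*x1*z1 -
      x*y^2*z*y1^2 - 2*x*y*z^2*y1*z1 - x*z^3*z1^2) * hv
  have hF2 : (y * y1 + z * z1 - x * x1) ^ 2 * ((x * x1 + z * z1 - y * y1) ^ 2 + v * x1 * z1) * (u + y * z) -
      KQ x y z x1 y1 z1 * u = u * (v * (v1 + x1 * z1) * (u1 * (u + y * z)) - KQ x y z x1 y1 z1) := by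
    linear_combination (-u*v*v1 - u*v*x1*z1 - v*v1*y*z - v*y*z*x1*z1) * hu + (-u*x^2*x1^2 + 2*u*x*y*x1*y1 +
      2*u*x*z*x1*z1 - u*y^2*y1^2 - 2*u*y*z*y1*z1 - u*z^2*z1^2 - x^2*y*z*x1^2 + 2*x*y^2*z*x1*y1 + 2*x*y*z^2*x1*z1 -
      y^3*z*y1^2 - 2*y^2*z^2*y1*z1 - y*z^3*z1^2) * hv
  have hG : y * z * (u - z ^ 2) * ((x * x1 + z * z1 - y * y1) ^ 2 *
        ((y * y1 + z * z1 - x * x1) ^ 2 + u * y1 * z1) * (v + x * z) - KP x y z x1 y1 z1 * v) -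
      x * z * (v - z ^ 2) * ((y * y1 + z * z1 - x * x1) ^ 2 *
        ((x * x1 + z * z1 - y * y1) ^ 2 + v * x1 * z1) * (u + y * z) - KQ x y z x1 y1 z1 * u) = 0 := by
    unfold KP KQ
    linear_combination (z * (x + y + z)) * hII -
      (x * x1 * (z * z1) * ((y * y1 - x * x1) ^ 2 * z ^ 2 - v * (y * y1 + z * z1 - x * x1) ^ 2) -
        y * y1 * (z * z1) * ((y * y1 - x * x1) ^ 2 * z ^ 2 - u * (x * x1 + z * z1 - y * y1) ^ 2) -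
        z ^ 2 * ((y * y1 - x * x1) ^ 4 + (z * z1) ^ 4 -
        x * x1 * ((y * y1 - x * x1) ^ 3 - (y * y1 - x * x1) * (z * z1) ^ 2 + (z * z1) ^ 3) -
        y * y1 * ((y * y1 - x * x1) ^ 3 - (y * y1 - x * x1) * (z * z1) ^ 2 - (z * z1) ^ 3)) +
        y * z * ((y * y1 - x * x1) ^ 4 + (z * z1) ^ 4)) * hI -
      (u*v*x^5*z*x1^4 + u*v*x^4*y*z*x1^4 - 3*u*v*x^4*y*z*x1^3*y1 - 3*u*v*x^3*y^2*z*x1^3*y1 + 3*u*v*x^3*y^2*z*x1^2*y1^2 - u*v*x^3*y*z^2*x1^3*z1 + 3*u*v*x^2*y^3*z*x1^2*y1^2 - u*v*x^2*y^3*z*x1*y1^3 + 3*u*v*x^2*y^2*z^2*x1^2*y1*z1 + 2*u*v*x^2*y*z^3*x1^2*z1^2 - u*v*x*y^4*z*x1*y1^3 - 3*u*v*x*y^3*z^2*x1*y1^2*z1 - 4*u*v*x*y^2*z^3*x1*y1*z1^2 - u*v*x*y*z^4*x1*z1^3 + u*v*y^4*z^2*y1^3*z1 + 2*u*v*y^3*z^3*y1^2*z1^2 + u*v*y^2*z^4*y1*z1^3 + u*v*y*z^5*z1^4 - u*x^5*z^3*x1^4 + 3*u*x^4*y*z^3*x1^3*y1 - 3*u*x^3*y^2*z^3*x1^2*y1^2 + u*x^3*y*z^4*x1^2*z1^2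 + u*x^2*y^3*z^3*x1*y1^3 - 2*u*x^2*y^2*z^4*x1*y1*z1^2 + u*x*y^3*z^4*y1^2*z1^2 - v*x^4*y*z^3*x1^4 + 3*v*x^3*y^2*z^3*x1^3*y1 + v*x^3*y*z^4*x1^3*z1 - v*x^3*y*z^4*x1^2*z1^2 - 3*v*x^2*y^3*z^3*x1^2*y1^2 - 3*v*x^2*y^2*z^4*x1^2*y1*z1 + 2*v*x^2*y^2*z^4*x1*y1*z1^2 - 2*v*x^2*y*z^5*x1^2*z1^2 + v*x*y^4*z^3*x1*y1^3 + 3*v*x*y^3*z^4*x1*y1^2*z1 - v*x*y^3*z^4*y1^2*z1^2 + 4*v*x*y^2*z^5*x1*y1*z1^2 + v*x*y*z^6*x1*z1^3 - v*y^4*z^4*y1^3*z1 - 2*v*y^3*z^5*y1^2*z1^2 - v*y^2*z^6*y1*z1^3 - v*y*z^7*z1^4) * h3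
  rw [hF1, hF2] at hG
  linear_combination hG

/-- both equations -/
theorem both (h3 : (3 : K) = 0) (hz : z ≠ 0) (he : x + y + z ≠ 0) (hN : u * v - w * z ^ 2 ≠ 0)
    (hI : z * w * (x + y + z) = u * v + z * (x * u + y * v))
    (hI1 : z1 * w1 * (x1 + y1 + z1) = u1 * v1 + z1 * (x1 * u1 + y1 * v1))
    (hII : x * x1 * (z * z1) * (w - u) * ((y * y1 - x * x1) ^ 2 * z ^ 2 - v * (y * y1 + z * z1 - x * x1) ^ 2) -
      y * y1 * (z * z1) * (w - v) * ((y * y1 - x * x1) ^ 2 * z ^ 2 - u * (x * x1 + z * z1 - y * y1) ^ 2) +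
      (u * v - w * z ^ 2) * ((y * y1 - x * x1) ^ 4 + (z * z1) ^ 4 -
        x * x1 * ((y * y1 - x * x1) ^ 3 - (y * y1 - x * x1) * (z * z1) ^ 2 + (z * z1) ^ 3) -
        y * y1 * ((y * y1 - x * x1) ^ 3 - (y * y1 - x * x1) * (z * z1) ^ 2 - (z * z1) ^ 3)) +
      y * z * (w - v) * ((y * y1 - x * x1) ^ 4 + (z * z1) ^ 4) = 0)
    (hu : u * u1 = (y * y1 + z * z1 - x * x1) ^ 2) (hv : v * v1 = (x * x1 + z * z1 - y * y1) ^ 2)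
    (hw : w * w1 = (y * y1 - x * x1) ^ 2) :
    u * (u1 + y1 * z1) * (v1 * (v + x * z)) = KP x y z x1 y1 z1 ∧
      v * (v1 + x1 * z1) * (u1 * (u + y * z)) = KQ x y z x1 y1 z1 := by
  have h1 := sum_eq h3 hI hI1 hu hv hw
  have h2 := rel_eq h3 hI hII hu hv
  have h4 : z * (z * ((x + y + z) * (u * v - w * z ^ 2))) *
      (u * (u1 + y1 * z1) * (v1 * (v + x * z)) - KP x y z x1 y1 z1) = 0 := by
    generalize u * (u1 + y1 * z1) * (v1 * (v + x * z)) - KP x y z x1 y1 z1 = E at *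
    generalize v * (v1 + x1 * z1) * (u1 * (u + y * z)) - KQ x y z x1 y1 z1 = F at *
    linear_combination z * h2 + (z * (x * (v - z ^ 2) * u * z)) * h1 - z * z ^ 2 * E * hI
  have h5 : u * (u1 + y1 * z1) * (v1 * (v + x * z)) - KP x y z x1 y1 z1 = 0 := by
    rcases mul_eq_zero.1 h4 with h | h
    · exact absurd h (mul_ne_zero hz (mul_ne_zero hz (mul_ne_zero he hN)))
    · exact h
  refine ⟨sub_eq_zero.1 h5, sub_eq_zero.1 ?_⟩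
  rw [h5, zero_add] at h1
  exact h1

end CertIn

end Cfsg.Agent.ReeUniq
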