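import Mathlib
set_option linter.all false

/-!
# A fast kernel checker for polynomial identities in characteristic three

Polynomials with coefficients `0, 1, 2` in `n` variables are packed into one natural number:
the coefficient of the monomial with exponents `m` is the digit number `∑ i, m i * st i` in base
`2 ^ k` (`st i` = product of the radices `D j`, `j < i`).  A product of two such numbers is the
packed product (Kronecker substitution), computed by the kernel with big number arithmetic.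

`check c e = true` (by `decide +kernel`) implies that the expression `e` vanishes at all points of
all commutative rings with `3 = 0` (`sound`).
-/

namespace Cfsg.Agent.ReeUniq.PolyF3

open Finset

/-! ### digits -/

theorem digit_eval {B : ℕ} : ∀ (j : ℕ) (Q : Polynomial ℕ), (∀ i, Q.coeff i < B) →
    Q.eval B / B ^ j % B = Q.coeff j := by
  intro j
  induction j with
  | zero =>
    intro Q hQ
    have h := congrArg (Polynomial.eval B) (Polynomial.divX_mul_X_add Q)
    rw [Polynomial.eval_add, Polynomial.eval_mul, Polynomial.eval_X, Polynomial.eval_C] at h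
    rw [← h, pow_zero, Nat.div_one, Nat.add_comm, Nat.add_mul_mod_self_right,
      Nat.mod_eq_of_lt (hQ 0)]
  | succ j ih =>
    intro Q hQ
    have hB : 0 < B := lt_of_le_of_lt (Nat.zero_le _) (hQ 0)
    have h := congrArg (Polynomial.eval B) (Polynomial.divX_mul_X_add Q)
    rw [Polynomial.eval_add, Polynomial.eval_mul, Polynomial.eval_X, Polynomial.eval_C] at h
    rw [← h, pow_succ', ← Nat.div_div_eq_div_mul, mul_comm, Nat.mul_add_div hB,
      Nat.div_eq_of_lt (hQ 0), add_zero, ih _ (fun i => by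
        rw [Polynomial.coeff_divX]; exact hQ _), Polynomial.coeff_divX]

theorem three_digit {B : ℕ} : ∀ (j q : ℕ), (∀ i, i ≤ j → 3 * (q / B ^ i % B) < B) →
    3 * q / B ^ j % B = 3 * (q / B ^ j % B) := by
  intro j
  induction j with
  | zero =>
    intro q h
    have h0 := h 0 le_rfl
    rw [pow_zero, Nat.div_one] at h0 ⊢
    rw [Nat.div_one, ← Nat.div_add_mod q B, mul_add, mul_left_comm, Nat.mul_add_mod,
      Nat.mod_eq_of_lt h0, Nat.mul_add_mod, Nat.mod_mod]
  | succ j ih =>
    intro q h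
    have h0 := h 0 (Nat.zero_le _)
    rw [pow_zero, Nat.div_one] at h0
    have hB : 0 < B := lt_of_le_of_lt (Nat.zero_le _) h0
    have e : 3 * q / B = 3 * (q / B) := by
      conv_lhs => rw [← Nat.div_add_mod q B, mul_add, mul_left_comm, Nat.mul_add_div hB,
        Nat.div_eq_of_lt h0, add_zero]
    rw [pow_succ', ← Nat.div_div_eq_div_mul, ← Nat.div_div_eq_div_mul, e]
    refine ih _ fun i hi => ?_
    have := h (i + 1) (by omega)
    rwa [pow_succ', ← Nat.div_div_eq_div_mul] at this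

theorem testBit_dig (k N j i : ℕ) :
    (N / (2 ^ k) ^ j % 2 ^ k).testBit i = (decide (i < k) && N.testBit (i + k * j)) := by
  rw [Nat.testBit_mod_two_pow, ← pow_mul, Nat.testBit_div_two_pow]

theorem dig_land (k M N j : ℕ) :
    (M &&& N) / (2 ^ k) ^ j % 2 ^ k = (M / (2 ^ k) ^ j % 2 ^ k) &&& (N / (2 ^ k) ^ j % 2 ^ k) := by
  apply Nat.eq_of_testBit_eq
  intro i
  rw [Nat.testBit_and, testBit_dig, testBit_dig, testBit_dig, Nat.testBit_and]
  cases decide (i < k) <;> simp

theorem lt_of_land {k d : ℕ} (hk : 2 ≤ k) (hd : d < 2 ^ k) (h : d &&& (3 * 2 ^ (k - 2)) = 0) :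
    d < 2 ^ (k - 2) := by
  by_contra hc
  push Not at hc
  obtain ⟨i, hi, hb⟩ := Nat.exists_ge_and_testBit_of_ge_two_pow hc
  have hik : i < k := by
    by_contra hik
    push Not at hik
    have := Nat.ge_two_pow_of_testBit hb
    have h2 : 2 ^ k ≤ 2 ^ i := Nat.pow_le_pow_right (by norm_num) hik
    omega
  have h3 : (3 * 2 ^ (k - 2)).testBit i = true := by
    rw [Nat.testBit_mul_two_pow]
    have : i - (k - 2) = 0 ∨ i - (k - 2) = 1 := by omega
    rcases this with e | e
    · rw [e]; simp [hi]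
    · rw [e]; simp only [hi, decide_true, Bool.true_and]; decide
  have h4 : (d &&& (3 * 2 ^ (k - 2))).testBit i = true := by
    rw [Nat.testBit_and, hb, h3]; rfl
  rw [h] at h4
  simp at h4

/-! ### configurations and expressions -/

variable {n : ℕ}

/-- base `2 ^ k`, radices `D`, strides `st`, number `L` of digits -/
structure Cfg (n : ℕ) where
  k : ℕ
  D : Fin n → ℕ
  st : Fin n → ℕ
  L : ℕ

structure Cfg.Good (c : Cfg n) : Prop where
  hk : 2 ≤ c.k
  hD : ∀ i, 0 < c.D i
  hst : ∀ i : Fin n, c.st i = ∏ j : Fin i, c.D (Fin.castLE i.is_lt.le j)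
  hL : c.L = ∏ i, c.D i

/-- polynomial expressions; `lit d N`: packed polynomial, of degree at most `d i` in the
variable `i` -/
inductive E (n : ℕ) where
  | lit (d : Fin n → ℕ) (N : ℕ)
  | nat (a : ℕ)
  | var (i : Fin n)
  | add (a b : E n)
  | mul (a b : E n)
  | pow (a : E n) (m : ℕ)

namespace Cfg

variable (c : Cfg n)

/-- digit number `j` of `N` -/
def dig (N j : ℕ) : ℕ := N / (2 ^ c.k) ^ j % 2 ^ c.k

/-- `1 + x + ⋯ + x ^ d` -/
def geo (x d : ℕ) : ℕ := (x ^ (d + 1) - 1) / (x - 1)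

/-- value of the variables -/
def X (i : Fin n) : ℕ := (2 ^ c.k) ^ c.st i

def val : E n → ℕ
  | .lit _ N => N
  | .nat a => a
  | .var i => c.X i
  | .add a b => val a + val b
  | .mul a b => val a * val b
  | .pow a m => val a ^ m

/-- the number with all `L` digits equal to one -/
def ones : ℕ := ((2 ^ c.k) ^ c.L - 1) / (2 ^ c.k - 1)

/-- exponent vector -/
noncomputable def ex (f : ∀ i, Fin (c.D i)) : Fin n →₀ ℕ :=
  Finsupp.equivFunOnFinite.symm fun i => (f i : ℕ)

theorem ex_apply (f : ∀ i, Fin (c.D i)) (i : Fin n) : c.ex f i = f i := rfl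

theorem ex_injective : Function.Injective c.ex := by
  intro f g h
  funext i
  exact Fin.ext (by rw [← c.ex_apply f, ← c.ex_apply g, h])

/-- the polynomial with given digits -/
noncomputable def unpack (N : ℕ) : MvPolynomial (Fin n) ℕ :=
  ∑ f : ∀ i, Fin (c.D i), MvPolynomial.monomial (c.ex f) (c.dig N (finPiFinEquiv f))

noncomputable def poly : E n → MvPolynomial (Fin n) ℕ
  | .lit _ N => c.unpack N
  | .nat a => MvPolynomial.C a
  | .var i => MvPolynomial.X i
  | .add a b => poly a + poly b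
  | .mul a b => poly a * poly b
  | .pow a m => poly a ^ m

theorem prod_X (hc : c.Good) (f : ∀ i, Fin (c.D i)) :
    ∏ i, c.X i ^ (f i : ℕ) = (2 ^ c.k) ^ (finPiFinEquiv f : ℕ) := by
  rw [finPiFinEquiv_apply, ← Finset.prod_pow_eq_pow_sum]
  refine Finset.prod_congr rfl fun i _ => ?_
  rw [X, ← pow_mul, hc.hst i, mul_comm]

theorem eval_ex (hc : c.Good) (f : ∀ i, Fin (c.D i)) (a : ℕ) :
    MvPolynomial.eval c.X (MvPolynomial.monomial (c.ex f) a) =
      a * (2 ^ c.k) ^ (finPiFinEquiv f : ℕ) := by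
  rw [MvPolynomial.eval_monomial, Finsupp.prod_fintype _ _ (fun i => pow_zero _),
    ← c.prod_X hc f]
  rfl

/-- polynomial of the digits below `L` -/
noncomputable def Q (w : Fin (∏ i, c.D i) → ℕ) : Polynomial ℕ :=
  ∑ j : Fin (∏ i, c.D i), Polynomial.monomial (j : ℕ) (w j)

theorem coeff_Q (w : Fin (∏ i, c.D i) → ℕ) (j : ℕ) :
    (c.Q w).coeff j = if h : j < ∏ i, c.D i then w ⟨j, h⟩ else 0 := by
  rw [Q, Polynomial.finsetSum_coeff]
  split_ifs with h
  · rw [Finset.sum_eq_single ⟨j, h⟩]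
    · rw [Polynomial.coeff_monomial, if_pos rfl]
    · intro b _ hb
      rw [Polynomial.coeff_monomial, if_neg fun e => hb (Fin.ext e)]
    · intro hn
      exact absurd (Finset.mem_univ _) hn
  · refine Finset.sum_eq_zero fun b _ => ?_
    rw [Polynomial.coeff_monomial, if_neg]
    rintro rfl
    exact h b.2

theorem eval_Q (w : Fin (∏ i, c.D i) → ℕ) (B : ℕ) :
    (c.Q w).eval B = ∑ j, w j * B ^ (j : ℕ) := by
  rw [Q, Polynomial.eval_finsetSum]
  exact Finset.sum_congr rfl fun j _ => Polynomial.eval_monomial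

theorem dig_sum (w : Fin (∏ i, c.D i) → ℕ) (hw : ∀ j, w j < 2 ^ c.k) (j : ℕ) :
    c.dig (∑ j, w j * (2 ^ c.k) ^ (j : ℕ)) j = if h : j < ∏ i, c.D i then w ⟨j, h⟩ else 0 := by
  rw [← c.eval_Q, dig, digit_eval, coeff_Q]
  intro i
  rw [coeff_Q]
  split_ifs
  · exact hw _
  · positivity

theorem sum_dig_aux (B N : ℕ) : ∀ M : ℕ,
    ∑ j ∈ Finset.range M, N / B ^ j % B * B ^ j = N % B ^ M := by
  intro M
  induction M with
  | zero => simp [Nat.mod_one]
  | succ M ih => rw [Finset.sum_range_succ, ih, Nat.mod_pow_succ, mul_comm (B ^ M)]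

theorem sum_dig {N M : ℕ} (h : N < (2 ^ c.k) ^ M) :
    ∑ j : Fin M, c.dig N j * (2 ^ c.k) ^ (j : ℕ) = N := by
  rw [Fin.sum_univ_eq_sum_range (fun j => c.dig N j * (2 ^ c.k) ^ j)]
  simp only [dig]
  rw [sum_dig_aux, Nat.mod_eq_of_lt h]

/-! ### the value of a polynomial at the packing point determines its coefficients -/

/-- degrees below the radices -/
def Small (P : MvPolynomial (Fin n) ℕ) : Prop := ∀ m, P.coeff m ≠ 0 → ∀ i, m i < c.D i

theorem eq_sum_of_small {P : MvPolynomial (Fin n) ℕ} (h : c.Small P) :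
    P = ∑ f : ∀ i, Fin (c.D i), MvPolynomial.monomial (c.ex f) (P.coeff (c.ex f)) := by
  ext m
  rw [MvPolynomial.coeff_sum]
  by_cases hm : ∀ i, m i < c.D i
  · obtain ⟨f, rfl⟩ : ∃ f, c.ex f = m := ⟨fun i => ⟨m i, hm i⟩, by ext i; rfl⟩
    rw [Finset.sum_eq_single f]
    · rw [MvPolynomial.coeff_monomial, if_pos rfl]
    · intro g _ hg
      rw [MvPolynomial.coeff_monomial, if_neg fun e => hg (c.ex_injective e)]
    · intro hn
      exact absurd (Finset.mem_univ _) hn
  · have h0 : P.coeff m = 0 := by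
      by_contra h0
      exact hm (h m h0)
    rw [h0, eq_comm]
    refine Finset.sum_eq_zero fun g _ => ?_
    rw [MvPolynomial.coeff_monomial, if_neg]
    rintro rfl
    exact hm fun i => (g i).2

theorem eval_of_small (hc : c.Good) {P : MvPolynomial (Fin n) ℕ} (h : c.Small P) :
    MvPolynomial.eval c.X P =
      ∑ j : Fin (∏ i, c.D i), P.coeff (c.ex (finPiFinEquiv.symm j)) * (2 ^ c.k) ^ (j : ℕ) := by
  conv_lhs => rw [c.eq_sum_of_small h, map_sum]
  rw [← Equiv.sum_comp finPiFinEquiv]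
  refine Finset.sum_congr rfl fun f _ => ?_
  rw [c.eval_ex hc, Equiv.symm_apply_apply]

theorem dig_eval (hc : c.Good) {P : MvPolynomial (Fin n) ℕ} (h : c.Small P)
    (hb : ∀ m, P.coeff m < 2 ^ c.k) (f : ∀ i, Fin (c.D i)) :
    c.dig (MvPolynomial.eval c.X P) (finPiFinEquiv f) = P.coeff (c.ex f) := by
  rw [c.eval_of_small hc h, c.dig_sum _ fun j => hb _, dif_pos (finPiFinEquiv f).2]
  rw [Fin.eta, Equiv.symm_apply_apply]

/-- all digits equal to `a`, at the first `L` positions -/
theorem dig_ones (hc : c.Good) {a : ℕ} (ha : a < 2 ^ c.k) (j : ℕ) :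
    c.dig (a * c.ones) j = if j < ∏ i, c.D i then a else 0 := by
  have h2 : 2 ≤ 2 ^ c.k := by
    calc 2 = 2 ^ 1 := by norm_num
      _ ≤ _ := Nat.pow_le_pow_right (by norm_num) (by have := hc.hk; omega)
  rw [ones, ← Nat.geomSum_eq h2, hc.hL, Finset.mul_sum,
    ← Fin.sum_univ_eq_sum_range (fun j => a * (2 ^ c.k) ^ j), c.dig_sum (fun _ => a) (fun _ => ha)]
  simp

theorem ones_lt (hc : c.Good) {a : ℕ} (ha : a < 2 ^ c.k) : a * c.ones < (2 ^ c.k) ^ ∏ i, c.D i := by
  have h2 : 2 ≤ 2 ^ c.k := by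
    calc 2 = 2 ^ 1 := by norm_num
      _ ≤ _ := Nat.pow_le_pow_right (by norm_num) (by have := hc.hk; omega)
  rw [ones, ← Nat.geomSum_eq h2, hc.hL]
  generalize ∏ i, c.D i = M
  induction M with
  | zero => simp
  | succ M ih =>
    rw [Finset.sum_range_succ, mul_add, pow_succ]
    have : (2 ^ c.k) ^ M * (a + 1) ≤ (2 ^ c.k) ^ M * 2 ^ c.k := Nat.mul_le_mul_left _ ha
    linarith [mul_comm a ((2 ^ c.k) ^ M), mul_add ((2 ^ c.k) ^ M) a 1]

/-! ### literals -/

theorem coeff_unpack (N : ℕ) (m : Fin n →₀ ℕ) (hm : (c.unpack N).coeff m ≠ 0) :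
    ∃ f : ∀ i, Fin (c.D i), c.ex f = m := by
  by_contra hcon
  push Not at hcon
  refine hm ?_
  rw [unpack, MvPolynomial.coeff_sum]
  exact Finset.sum_eq_zero fun g _ => by rw [MvPolynomial.coeff_monomial, if_neg (hcon g)]

theorem coeff_unpack_ex (N : ℕ) (f : ∀ i, Fin (c.D i)) :
    (c.unpack N).coeff (c.ex f) = c.dig N (finPiFinEquiv f) := by
  rw [unpack, MvPolynomial.coeff_sum, Finset.sum_eq_single f]
  · rw [MvPolynomial.coeff_monomial, if_pos rfl]
  · intro g _ hg
    rw [MvPolynomial.coeff_monomial, if_neg fun e => hg (c.ex_injective e)]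
  · intro hn
    exact absurd (Finset.mem_univ _) hn

theorem small_unpack (N : ℕ) : c.Small (c.unpack N) := by
  intro m hm i
  obtain ⟨f, rfl⟩ := c.coeff_unpack N m hm
  exact (f i).2

theorem eval_unpack (hc : c.Good) {N : ℕ} (hN : N < (2 ^ c.k) ^ ∏ i, c.D i) :
    MvPolynomial.eval c.X (c.unpack N) = N := by
  rw [c.eval_of_small hc (c.small_unpack N)]
  conv_rhs => rw [← c.sum_dig hN]
  refine Finset.sum_congr rfl fun j _ => ?_
  rw [c.coeff_unpack_ex, Equiv.apply_symm_apply]

/-- product over `Fin n`, by recursion (for the kernel) -/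
def prodFin : ∀ {m : ℕ}, (Fin m → ℕ) → ℕ
  | 0, _ => 1
  | _ + 1, f => f 0 * prodFin fun i => f i.succ

theorem prodFin_eq : ∀ {m : ℕ} (f : Fin m → ℕ), prodFin f = ∏ i, f i
  | 0, _ => by simp [prodFin]
  | m + 1, f => by rw [prodFin, Fin.prod_univ_succ, prodFin_eq]

/-- the box of exponents at most `d`, all coefficients `3` -/
def box (d : Fin n → ℕ) : ℕ := 3 * prodFin fun i => geo (c.X i) (d i)

noncomputable def boxP (d : Fin n → ℕ) : MvPolynomial (Fin n) ℕ :=
  MvPolynomial.C 3 * ∏ i, ∑ j ∈ range (d i + 1), MvPolynomial.X i ^ j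

theorem two_le_X (hc : c.Good) (i : Fin n) : 2 ≤ c.X i := by
  have h1 : 1 ≤ c.st i := by
    rw [hc.hst i]
    exact Nat.one_le_iff_ne_zero.2 (Finset.prod_ne_zero_iff.2 fun j _ => (hc.hD _).ne')
  have h2 : 2 ≤ 2 ^ c.k := by
    calc 2 = 2 ^ 1 := by norm_num
      _ ≤ _ := Nat.pow_le_pow_right (by norm_num) (by have := hc.hk; omega)
  calc 2 ≤ 2 ^ c.k := h2
    _ = (2 ^ c.k) ^ 1 := (pow_one _).symm
    _ ≤ _ := Nat.pow_le_pow_right (by omega) h1

theorem eval_boxP (hc : c.Good) (d : Fin n → ℕ) :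
    MvPolynomial.eval c.X (boxP d) = c.box d := by
  rw [boxP, box, prodFin_eq, map_mul, MvPolynomial.eval_C, map_prod]
  congr 1
  refine Finset.prod_congr rfl fun i _ => ?_
  rw [map_sum, geo, ← Nat.geomSum_eq (c.two_le_X hc i)]
  exact Finset.sum_congr rfl fun j _ => by rw [map_pow, MvPolynomial.eval_X]

/-! ### bounds -/

/-- coefficients at most `a`, sum of the coefficients at most `b` -/
def Bd (P : MvPolynomial (Fin n) ℕ) (a b : ℕ) : Prop :=
  (∀ m, P.coeff m ≤ a) ∧ MvPolynomial.eval (fun _ => 1) P ≤ b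

theorem eval_one (P : MvPolynomial (Fin n) ℕ) :
    MvPolynomial.eval (fun _ => 1) P = ∑ m ∈ P.support, P.coeff m := by
  rw [MvPolynomial.eval_eq]
  simp

theorem coeff_le_eval_one (P : MvPolynomial (Fin n) ℕ) (m : Fin n →₀ ℕ) :
    P.coeff m ≤ MvPolynomial.eval (fun _ => 1) P := by
  rw [eval_one]
  by_cases h : m ∈ P.support
  · exact Finset.single_le_sum (f := fun m => P.coeff m) (fun _ _ => Nat.zero_le _) h
  · rw [MvPolynomial.notMem_support_iff.1 h]; exact Nat.zero_le _

theorem Bd.mul {P R : MvPolynomial (Fin n) ℕ} {a b a' b' : ℕ} (h : Bd P a b) (h' : Bd R a' b') :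
    Bd (P * R) (min (a * b') (b * a')) (b * b') := by
  refine ⟨fun m => ?_, by rw [map_mul]; exact Nat.mul_le_mul h.2 h'.2⟩
  have key : ∀ (P R : MvPolynomial (Fin n) ℕ) (a b' : ℕ), (∀ m, P.coeff m ≤ a) →
      MvPolynomial.eval (fun _ => 1) R ≤ b' → (P * R).coeff m ≤ a * b' := by
    intro P R a b' h1 h2
    rw [MvPolynomial.coeff_mul]
    calc ∑ x ∈ Finset.HasAntidiagonal.antidiagonal m, P.coeff x.1 * R.coeff x.2
        ≤ ∑ x ∈ Finset.HasAntidiagonal.antidiagonal m, a * R.coeff x.2 :=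
          Finset.sum_le_sum fun x _ => Nat.mul_le_mul_right _ (h1 _)
      _ = a * ∑ x ∈ Finset.HasAntidiagonal.antidiagonal m, R.coeff x.2 := by rw [Finset.mul_sum]
      _ ≤ a * b' := Nat.mul_le_mul_left _ ?_
    calc ∑ x ∈ Finset.HasAntidiagonal.antidiagonal m, R.coeff x.2
        = ∑ y ∈ (Finset.HasAntidiagonal.antidiagonal m).image Prod.snd, R.coeff y := by
          rw [Finset.sum_image]
          intro x hx y hy hxy
          have hx' := Finset.HasAntidiagonal.mem_antidiagonal.1 hx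
          have hy' := Finset.HasAntidiagonal.mem_antidiagonal.1 hy
          refine Prod.ext ?_ hxy
          rw [← hy', hxy] at hx'
          exact add_right_cancel hx'
      _ ≤ ∑ y ∈ R.support, R.coeff y := by
          rw [← Finset.sum_filter_add_sum_filter_not _ (fun y => y ∈ R.support)]
          have h0 : ∑ y ∈ ((Finset.HasAntidiagonal.antidiagonal m).image Prod.snd).filter
              (fun y => ¬ y ∈ R.support), R.coeff y = 0 :=
            Finset.sum_eq_zero fun y hy =>
              MvPolynomial.notMem_support_iff.1 (Finset.mem_filter.1 hy).2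
          rw [h0, add_zero]
          exact Finset.sum_le_sum_of_subset fun y hy => (Finset.mem_filter.1 hy).2
      _ ≤ b' := by rw [← eval_one]; exact h2
  refine le_min (key P R a b' h.1 h'.2) ?_
  rw [mul_comm P R, mul_comm b a']
  exact key R P a' b h'.1 h.2

theorem Bd.add {P R : MvPolynomial (Fin n) ℕ} {a b a' b' : ℕ} (h : Bd P a b) (h' : Bd R a' b') :
    Bd (P + R) (a + a') (b + b') :=
  ⟨fun m => by rw [MvPolynomial.coeff_add]; exact Nat.add_le_add (h.1 m) (h'.1 m),
    by rw [map_add]; exact Nat.add_le_add h.2 h'.2⟩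

theorem Bd.of_eval {P : MvPolynomial (Fin n) ℕ} {b : ℕ}
    (h : MvPolynomial.eval (fun _ => 1) P ≤ b) : Bd P b b :=
  ⟨fun m => (coeff_le_eval_one P m).trans h, h⟩

theorem bd_C (a : ℕ) : Bd (MvPolynomial.C a : MvPolynomial (Fin n) ℕ) a a :=
  Bd.of_eval (by rw [MvPolynomial.eval_C])

theorem bd_X (i : Fin n) : Bd (MvPolynomial.X i : MvPolynomial (Fin n) ℕ) 1 1 :=
  Bd.of_eval (by rw [MvPolynomial.eval_X])

theorem bd_boxP (d : Fin n → ℕ) : ∀ m, (boxP d).coeff m ≤ 3 * prodFin fun i => d i + 1 := by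
  refine (Bd.of_eval (le_of_eq ?_)).1
  rw [boxP, prodFin_eq, map_mul, MvPolynomial.eval_C, map_prod]
  congr 1
  refine Finset.prod_congr rfl fun i _ => ?_
  rw [map_sum]
  simp

theorem degreeOf_boxP (d : Fin n → ℕ) (i : Fin n) : (boxP d).degreeOf i ≤ d i := by
  rw [boxP]
  refine (MvPolynomial.degreeOf_mul_le _ _ _).trans ?_
  rw [MvPolynomial.degreeOf_C, zero_add]
  refine (MvPolynomial.degreeOf_prod_le _ _ _).trans ?_
  rw [Finset.sum_eq_single i]
  · refine (MvPolynomial.degreeOf_sum_le _ _ _).trans (Finset.sup_le fun j hj => ?_)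
    rw [MvPolynomial.degreeOf_X_self_pow]
    have := Finset.mem_range.1 hj
    omega
  · intro j _ hj
    refine Nat.eq_zero_of_le_zero ?_
    refine (MvPolynomial.degreeOf_sum_le _ _ _).trans (Finset.sup_le fun l _ => ?_)
    rw [MvPolynomial.degreeOf_X_pow_of_ne _ (Ne.symm hj)]
  · intro hn
    exact absurd (Finset.mem_univ _) hn

theorem small_of_degreeOf {P : MvPolynomial (Fin n) ℕ} (h : ∀ i, P.degreeOf i < c.D i) :
    c.Small P := by
  intro m hm i
  exact lt_of_le_of_lt ((MvPolynomial.degreeOf_le_iff.1 le_rfl) m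
    (MvPolynomial.mem_support_iff.2 hm)) (h i)

/-- literal inside the box `d` with digits at most three -/
def okLit (d : Fin n → ℕ) (N : ℕ) : Bool :=
  Nat.beq (N &&& c.box d) N && Nat.beq (N &&& (3 * c.ones)) N &&
    (decide (∀ i, d i < c.D i) && Nat.blt (3 * prodFin fun i => d i + 1) (2 ^ c.k))

theorem lit_facts (hc : c.Good) {d : Fin n → ℕ} {N : ℕ} (h : c.okLit d N = true) :
    N < (2 ^ c.k) ^ (∏ i, c.D i) ∧ Bd (c.unpack N) 3 (3 * c.L) ∧
      ∀ i, (c.unpack N).degreeOf i ≤ d i := by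
  simp only [okLit, Bool.and_eq_true, decide_eq_true_eq, Nat.blt_eq] at h
  obtain ⟨⟨h1, h2⟩, h3, h4⟩ := h
  replace h1 := Nat.eq_of_beq_eq_true h1
  replace h2 := Nat.eq_of_beq_eq_true h2
  have h3k : 3 < 2 ^ c.k := by
    calc 3 < 2 ^ 2 := by norm_num
      _ ≤ _ := Nat.pow_le_pow_right (by norm_num) hc.hk
  have hN : N < (2 ^ c.k) ^ (∏ i, c.D i) := by
    rw [← h2]
    exact lt_of_le_of_lt Nat.and_le_right (c.ones_lt hc h3k)
  have hd3 : ∀ j, c.dig N j ≤ 3 := by
    intro j
    have e := dig_land c.k N (3 * c.ones) j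
    rw [h2] at e
    change c.dig N j = c.dig N j &&& c.dig (3 * c.ones) j at e
    rw [e, c.dig_ones hc h3k]
    refine Nat.and_le_right.trans ?_
    split_ifs
    · exact le_rfl
    · exact Nat.zero_le _
  refine ⟨hN, ⟨fun m => ?_, ?_⟩, fun i => ?_⟩
  · by_cases hm : (c.unpack N).coeff m = 0
    · rw [hm]; exact Nat.zero_le _
    · obtain ⟨f, rfl⟩ := c.coeff_unpack N m hm
      rw [c.coeff_unpack_ex]
      exact hd3 _
  · rw [unpack, map_sum]
    calc _ ≤ ∑ f : ∀ i, Fin (c.D i), 3 := Finset.sum_le_sum fun f _ => by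
            rw [MvPolynomial.eval_monomial]
            simp only [one_pow, Finsupp.prod, Finset.prod_const_one, mul_one]
            exact hd3 _
      _ = 3 * c.L := by
            rw [Finset.sum_const, Finset.card_univ, Fintype.card_pi, smul_eq_mul, hc.hL, mul_comm]
            simp
  · rw [MvPolynomial.degreeOf_le_iff]
    intro m hm
    have hm' := MvPolynomial.mem_support_iff.1 hm
    obtain ⟨f, rfl⟩ := c.coeff_unpack N m hm'
    rw [c.coeff_unpack_ex] at hm'
    have e := dig_land c.k N (c.box d) (finPiFinEquiv f)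
    rw [h1] at e
    change c.dig N _ = c.dig N _ &&& c.dig (c.box d) _ at e
    have hs : c.Small (boxP d) := c.small_of_degreeOf fun i =>
      lt_of_le_of_lt (degreeOf_boxP d i) (h3 i)
    rw [← c.eval_boxP hc d, c.dig_eval hc hs (fun m => lt_of_le_of_lt (bd_boxP d m) h4) f] at e
    have hne : (boxP d).coeff (c.ex f) ≠ 0 := by
      intro h0
      rw [h0, Nat.and_zero] at e
      exact hm' e
    have := (MvPolynomial.degreeOf_le_iff.1 (degreeOf_boxP d i)) _
      (MvPolynomial.mem_support_iff.2 hne)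
    exact this

/-! ### the checker -/

def okE : E n → Bool
  | .lit d N => c.okLit d N
  | .nat _ => true
  | .var i => Nat.blt 1 (c.D i)
  | .add a b => okE a && okE b
  | .mul a b => okE a && okE b
  | .pow a _ => okE a

/-- bounds for the coefficients and their sum -/
def bd : E n → ℕ × ℕ
  | .lit _ _ => (3, 3 * c.L)
  | .nat a => (a, a)
  | .var _ => (1, 1)
  | .add a b => ((bd a).1 + (bd b).1, (bd a).2 + (bd b).2)
  | .mul a b => (min ((bd a).1 * (bd b).2) ((bd a).2 * (bd b).1), (bd a).2 * (bd b).2)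
  | .pow a m => ((bd a).2 ^ m, (bd a).2 ^ m)

def dg (i : Fin n) : E n → ℕ
  | .lit d _ => d i
  | .nat _ => 0
  | .var j => if j = i then 1 else 0
  | .add a b => max (dg i a) (dg i b)
  | .mul a b => dg i a + dg i b
  | .pow a m => m * dg i a

theorem facts (hc : c.Good) : ∀ (e : E n), c.okE e = true →
    c.val e = MvPolynomial.eval c.X (c.poly e) ∧ Bd (c.poly e) (c.bd e).1 (c.bd e).2 ∧
      ∀ i, (c.poly e).degreeOf i ≤ dg i e
  | .lit d N, h => by
      obtain ⟨h1, h2, h3⟩ := c.lit_facts hc h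
      exact ⟨(c.eval_unpack hc h1).symm, h2, h3⟩
  | .nat a, _ => ⟨by rw [val, poly, MvPolynomial.eval_C], bd_C a, fun i => by
      rw [poly, MvPolynomial.degreeOf_C]; exact Nat.zero_le _⟩
  | .var i, _ => ⟨by rw [val, poly, MvPolynomial.eval_X], bd_X i, fun j => by
      rw [poly, MvPolynomial.degreeOf_X, dg]
      split_ifs with h1 h2 h2
      · exact le_rfl
      · exact absurd h1.symm h2
      · exact Nat.zero_le _
      · exact le_rfl⟩
  | .add a b, h => by
      rw [okE, Bool.and_eq_true] at h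
      obtain ⟨a1, a2, a3⟩ := facts hc a h.1
      obtain ⟨b1, b2, b3⟩ := facts hc b h.2
      refine ⟨by rw [val, poly, map_add, a1, b1], a2.add b2, fun i => ?_⟩
      rw [poly, dg]
      exact (MvPolynomial.degreeOf_add_le _ _ _).trans (max_le_max (a3 i) (b3 i))
  | .mul a b, h => by
      rw [okE, Bool.and_eq_true] at h
      obtain ⟨a1, a2, a3⟩ := facts hc a h.1
      obtain ⟨b1, b2, b3⟩ := facts hc b h.2
      refine ⟨by rw [val, poly, map_mul, a1, b1], a2.mul b2, fun i => ?_⟩
      rw [poly, dg]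
      exact (MvPolynomial.degreeOf_mul_le _ _ _).trans (Nat.add_le_add (a3 i) (b3 i))
  | .pow a m, h => by
      rw [okE] at h
      obtain ⟨a1, a2, a3⟩ := facts hc a h
      refine ⟨by rw [val, poly, map_pow, a1], Bd.of_eval (by
        rw [poly, map_pow]; exact Nat.pow_le_pow_left a2.2 m), fun i => ?_⟩
      rw [poly, dg]
      exact (MvPolynomial.degreeOf_pow_le _ _ _).trans (Nat.mul_le_mul_left _ (a3 i))

variable {K : Type*} [CommRing K]

/-- evaluation in a commutative ring -/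
noncomputable def ev (v : Fin n → K) : E n → K
  | .lit _ N => MvPolynomial.eval₂ (Nat.castRingHom K) v (c.unpack N)
  | .nat a => (a : K)
  | .var i => v i
  | .add a b => ev v a + ev v b
  | .mul a b => ev v a * ev v b
  | .pow a m => ev v a ^ m

theorem ev_eq (v : Fin n → K) : ∀ e : E n,
    c.ev v e = MvPolynomial.eval₂ (Nat.castRingHom K) v (c.poly e)
  | .lit _ _ => rfl
  | .nat a => by rw [ev, poly, MvPolynomial.eval₂_C]; rfl
  | .var i => by rw [ev, poly, MvPolynomial.eval₂_X]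
  | .add a b => by rw [ev, poly, MvPolynomial.eval₂_add, ev_eq v a, ev_eq v b]
  | .mul a b => by rw [ev, poly, MvPolynomial.eval₂_mul, ev_eq v a, ev_eq v b]
  | .pow a m => by rw [ev, poly, MvPolynomial.eval₂_pow, ev_eq v a]

/-- `e` vanishes identically modulo three -/
def check (e : E n) : Bool :=
  c.okE e && (Nat.blt (c.bd e).1 (2 ^ c.k) && (decide (∀ i, dg i e < c.D i) &&
    (Nat.beq (3 * (c.val e / 3)) (c.val e) &&
      Nat.beq ((c.val e / 3) &&& ((3 * 2 ^ (c.k - 2)) * c.ones)) 0)))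

theorem sound (hc : c.Good) {e : E n} (h : c.check e = true) (h3 : (3 : K) = 0) (v : Fin n → K) :
    c.ev v e = 0 := by
  simp only [check, Bool.and_eq_true, decide_eq_true_eq, Nat.blt_eq] at h
  obtain ⟨hok, hb, hD, hq, hm⟩ := h
  replace hq := Nat.eq_of_beq_eq_true hq
  replace hm := Nat.eq_of_beq_eq_true hm
  obtain ⟨hv, hB, hdeg⟩ := c.facts hc e hok
  have hs : c.Small (c.poly e) := c.small_of_degreeOf fun i => lt_of_le_of_lt (hdeg i) (hD i)
  have hcoef : ∀ m, (c.poly e).coeff m < 2 ^ c.k := fun m => lt_of_le_of_lt (hB.1 m) hb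
  set q := c.val e / 3 with hqdef
  have hk := hc.hk
  have hmask : 3 * 2 ^ (c.k - 2) < 2 ^ c.k := by
    have : 2 ^ c.k = 4 * 2 ^ (c.k - 2) := by
      rw [show (4 : ℕ) = 2 ^ 2 from rfl, ← pow_add]
      congr 1; omega
    have hp : 0 < 2 ^ (c.k - 2) := by positivity
    omega
  have hval : c.val e < (2 ^ c.k) ^ (∏ i, c.D i) := by
    rw [hv, c.eval_of_small hc hs]
    have : ∀ (M : ℕ) (w : Fin M → ℕ), (∀ j, w j < 2 ^ c.k) →
        ∑ j, w j * (2 ^ c.k) ^ (j : ℕ) < (2 ^ c.k) ^ M := by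
      intro M
      induction M with
      | zero => intro w _; simp
      | succ M ih =>
        intro w hw
        rw [Fin.sum_univ_castSucc, pow_succ]
        have h1 := ih (fun j => w j.castSucc) fun j => hw _
        have h2 : (2 ^ c.k) ^ M * (w (Fin.last M) + 1) ≤ (2 ^ c.k) ^ M * 2 ^ c.k :=
          Nat.mul_le_mul_left _ (hw _)
        simp only [Fin.val_castSucc, Fin.val_last] at h1 ⊢
        linarith [mul_comm (w (Fin.last M)) ((2 ^ c.k) ^ M),
          mul_add ((2 ^ c.k) ^ M) (w (Fin.last M)) 1]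
    exact this _ _ fun j => hcoef _
  have hqle : q ≤ c.val e := Nat.div_le_self _ _
  -- digits of `q`
  have hdq : ∀ j, 3 * c.dig q j < 2 ^ c.k := by
    intro j
    by_cases hj : j < ∏ i, c.D i
    · have e1 := dig_land c.k q ((3 * 2 ^ (c.k - 2)) * c.ones) j
      change c.dig _ j = c.dig q j &&& c.dig _ j at e1
      rw [hm, c.dig_ones hc hmask, if_pos hj] at e1
      have e0 : c.dig 0 j = 0 := by simp [dig]
      rw [e0] at e1
      have hlt : c.dig q j < 2 ^ c.k := Nat.mod_lt _ (by positivity)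
      have := lt_of_land hk hlt e1.symm
      have h4 : 2 ^ c.k = 4 * 2 ^ (c.k - 2) := by
        rw [show (4 : ℕ) = 2 ^ 2 from rfl, ← pow_add]
        congr 1; omega
      omega
    · have h0 : c.dig q j = 0 := by
        have h1 : (2 ^ c.k) ^ (∏ i, c.D i) ≤ (2 ^ c.k) ^ j :=
          Nat.pow_le_pow_right (by positivity) (not_lt.1 hj)
        rw [dig, Nat.div_eq_of_lt (lt_of_le_of_lt hqle (lt_of_lt_of_le hval h1)), Nat.zero_mod]
      rw [h0]
      positivity
  have hdig : ∀ j, c.dig (c.val e) j = 3 * c.dig q j := by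
    intro j
    rw [← hq]
    exact three_digit j q fun i _ => hdq i
  have hcf : ∀ m, (((c.poly e).coeff m : ℕ) : K) = 0 := by
    intro m
    by_cases hm0 : (c.poly e).coeff m = 0
    · rw [hm0, Nat.cast_zero]
    · obtain ⟨f, rfl⟩ : ∃ f, c.ex f = m := ⟨fun i => ⟨m i, hs m hm0 i⟩, by ext i; rfl⟩
      have h1 := c.dig_eval hc hs hcoef f
      rw [← hv, hdig] at h1
      rw [← h1, Nat.cast_mul, Nat.cast_ofNat, h3, zero_mul]
  rw [ev_eq, MvPolynomial.eval₂_eq]
  exact Finset.sum_eq_zero fun m _ => by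
    rw [eq_natCast, hcf m, zero_mul]

/-- equality of two expressions modulo three -/
theorem sound_eq (hc : c.Good) {e e' : E n} (h : c.check (.add e (.mul (.nat 2) e')) = true)
    (h3 : (3 : K) = 0) (v : Fin n → K) : c.ev v e = c.ev v e' := by
  have h1 := c.sound hc h h3 v
  have h2 : c.ev v (.add e (.mul (.nat 2) e')) = c.ev v e + 2 * c.ev v e' := by
    simp [ev]
  rw [h2] at h1
  have : c.ev v e - c.ev v e' = (c.ev v e + 2 * c.ev v e') - 3 * c.ev v e' := by ring
  rw [h1, h3] at this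
  exact sub_eq_zero.1 (by rw [this]; ring)

/-! ### compact input of literals -/

/-- `k / 2` coefficients per word: word number `j` of `T` (of `k` bits) holds the coefficients
number `j`, `j + W`, `j + 2 W`, …  (two bits each); `W * r ≥ L` where `r ≤ k / 2` -/
def expandAux (mask T W : ℕ) : ℕ → ℕ
  | 0 => 0
  | r + 1 => expandAux mask T W r + ((T / 4 ^ r) &&& mask) * 2 ^ (c.k * W * r)

def expand (T W r : ℕ) : ℕ :=
  c.expandAux (3 * (((2 ^ c.k) ^ W - 1) / (2 ^ c.k - 1))) T W r

end Cfg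

end Cfsg.Agent.ReeUniq.PolyF3
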